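import Cfsg.Agent.H766.PQ.Alt
import Cfsg.Agent.H892.EP.Rows

/-!
# S4929: the alternating groups (helper729)

`alt_row` : for `5 ≤ n` and every odd prime `p ≤ n` the principal `p`-block of `A_n` contains a character of even degree.

* `n` odd, `2 p ≤ n` : the partition `(n - p, p)`;
* `n` even, `2 p ≤ n` : the partition `(n - p, p - 1, 1)`;
* `n = p` : `(n - 1, 1)`; `n = p + 1` : `(n - 3, 2, 1)`;
* `p + 2 ≤ n < 2 p` : the Sylow `p`-subgroups are cyclic and the cycles of length `p` are real.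
-/

set_option autoImplicit false
set_option linter.unusedSectionVars false

open Cfsg Cfsg.Agent

namespace Cfsg.Agent.H729.EP

open Cfsg.Agent.Characters.Core Cfsg.Agent.Blocks.Basic
open Cfsg.Agent.H614
open Cfsg.Agent.H133.PB (tr tr_strictMono tr_sum ch_tr ch_mem_principalBlock)
open Cfsg.Agent.H766.PQ (F3 prod_Ioi_three tr_two mod_eq_of_dvd_sub mem_perm)
open Cfsg.Agent.H892.EP (Ev EvAt evAt_of_real_cyclic)

theorem fact_two {b : ℕ} (h : 2 ≤ b) : (b.factorial : ℤ) = b * (b - 1) * (b - 2).factorial := by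
  obtain ⟨c, rfl⟩ : ∃ c, b = c + 2 := ⟨b - 2, by omega⟩
  rw [Nat.add_sub_cancel, Nat.factorial_succ, Nat.factorial_succ]
  push_cast
  ring

/-- The value at a transposition. -/
theorem FM_two (n : ℕ) (hn : 2 ≤ n) (β : Fin 3 → ℕ) (hs : ∑ i, β i = n + ∑ i : Fin 3, (i : ℕ)) :
    FM (2 ::ₘ Multiset.replicate (n - 2) 1) β * ∏ i, ((β i).factorial : ℤ) =
      (n - 2).factorial * ((β 0 : ℤ) * (β 0 - 1) * F3 (β 0 - 2) (β 1) (β 2) +
        (β 1 : ℤ) * (β 1 - 1) * F3 (β 0) (β 1 - 2) (β 2) +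
        (β 2 : ℤ) * (β 2 - 1) * F3 (β 0) (β 1) (β 2 - 2)) := by
  have key : ∀ j : Fin 3, (if 2 ≤ β j then FM (Multiset.replicate (n - 2) 1) (dn β j 2) else 0) *
      ∏ i, ((β i).factorial : ℤ) = (n - 2).factorial * ((β j : ℤ) * (β j - 1) *
        F3 (Function.update (fun i => (β i : ℤ)) j (β j - 2) 0) (Function.update (fun i => (β i : ℤ)) j (β j - 2) 1)
          (Function.update (fun i => (β i : ℤ)) j (β j - 2) 2)) := by
    intro j
    split_ifs with hj
    · have h2 : ∏ i, ((β i).factorial : ℤ) =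
          ((β j : ℤ) * (β j - 1)) * ∏ i, ((dn β j 2 i).factorial : ℤ) := by
        have h4 : ∏ i ∈ Finset.univ.erase j, ((dn β j 2 i).factorial : ℤ) =
            ∏ i ∈ Finset.univ.erase j, ((β i).factorial : ℤ) :=
          Finset.prod_congr rfl (fun k hk => by rw [dn_ne β 2 (Finset.ne_of_mem_erase hk)])
        rw [← Finset.mul_prod_erase _ _ (Finset.mem_univ j),
          ← Finset.mul_prod_erase _ (fun i => ((dn β j 2 i).factorial : ℤ)) (Finset.mem_univ j),
          dn_self, h4, fact_two hj]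
        ring
      have h3 := FM_ones_formula (n - 2) (dn β j 2) (by have := sum_dn β j hj; omega)
      have h5 : ∀ i, ((dn β j 2 i : ℕ) : ℤ) = Function.update (fun i => (β i : ℤ)) j (β j - 2) i := by
        intro i
        by_cases hi : i = j
        · subst hi
          rw [dn_self, Function.update_self, Nat.cast_sub hj]
          rfl
        · rw [dn_ne β 2 hi, Function.update_of_ne hi]
      have h6 : ∏ i : Fin 3, ∏ k ∈ Finset.Ioi i, (((dn β j 2 k : ℕ) : ℤ) - (dn β j 2 i : ℕ)) =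
          F3 (Function.update (fun i => (β i : ℤ)) j (β j - 2) 0) (Function.update (fun i => (β i : ℤ)) j (β j - 2) 1)
          (Function.update (fun i => (β i : ℤ)) j (β j - 2) 2) := by
        simp only [h5]
        exact prod_Ioi_three _
      rw [h6] at h3
      rw [h2]
      linear_combination ((β j : ℤ) * (β j - 1)) * h3
    · have h7 : (β j : ℤ) * (β j - 1) = 0 := by
        have : β j = 0 ∨ β j = 1 := by omega
        rcases this with h | h <;> rw [h] <;> norm_num
      rw [h7]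
      ring
  rw [FM_cons, Finset.sum_mul, Finset.sum_congr rfl fun j _ => key j, Fin.sum_univ_three]
  simp [Function.update]
  ring

section

variable {n : ℕ}

/-- A tuple with the residues of the trivial one, of even degree. -/
theorem exists_of_tuple {p : ℕ} (hp : p.Prime) (hn : 5 ≤ n) {β : Fin 3 → ℕ} (hβ : StrictMono β)
    (hs : ∑ i, β i = n + ∑ i : Fin 3, (i : ℕ)) (σ : Equiv.Perm (Fin 3)) (h : ∀ i, tr 2 n i % p = β (σ i) % p)
    (hd : (2 : ℤ) ∣ FM (Multiset.replicate n 1) β)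
    (h4 : (4 : ℤ) ∣ FM (Multiset.replicate n 1) β ∨ ((β 0 : ℤ) * (β 0 - 1) * F3 (β 0 - 2) (β 1) (β 2) +
        (β 1 : ℤ) * (β 1 - 1) * F3 (β 0) (β 1 - 2) (β 2) +
        (β 2 : ℤ) * (β 2 - 1) * F3 (β 0) (β 1) (β 2 - 2)) ≠ 0) : EvAt p ↥(alternatingGroup (Fin n)) := by
  classical
  have : Fact p.Prime := ⟨hp⟩
  have : Nontrivial (Fin n) := Fin.nontrivial_iff_two_le.2 (by omega)
  have hs' : ∑ i, β i = Fintype.card (Fin n) + ∑ i : Fin 3, (i : ℕ) := by rw [Fintype.card_fin]; exact hs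
  intro M hM
  have hχ := isIrr_ch (α := Fin n) hβ hs'
  obtain ⟨ψ, hψ⟩ := exists_constituent (alternatingGroup (Fin n)) hχ
  refine ⟨ψ, H611.CoverPrincipal.mem_principalBlock_of_over p hM (alternatingGroup (Fin n)) ⟨ch (Fin n) β, hχ⟩ ψ hψ
      ((mem_perm hp hβ hs σ h) M hM), ?_⟩
  have hdeg : charDegree (ch (Fin n) β) = Int.natAbs (FM (Multiset.replicate n 1) β) := by
    rw [charDegree_ch hβ hs', Fintype.card_fin]
  rcases degree_two (alternatingGroup (Fin n)) alternatingGroup.index_eq_two hχ ψ.2 hψ with h3 | ⟨h3, h5⟩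
  · rw [← h3, hdeg]
    exact Int.natCast_dvd.1 hd
  · rcases h4 with h4 | h4
    · have h6 : 4 ∣ charDegree (ch (Fin n) β) := by
        rw [hdeg]
        exact Int.natCast_dvd.1 h4
      rw [h3] at h6
      omega
    · exfalso
      apply h4
      obtain ⟨g, hg⟩ := (Equiv.Perm.exists_with_cycleType_iff (Fin n) (m := {2})).mpr
        ⟨by simp; omega, by simp⟩
      have hgA : g ∉ alternatingGroup (Fin n) := by
        rw [Equiv.Perm.mem_alternatingGroup, Equiv.Perm.sign_of_cycleType, hg]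
        simp
        decide
      have h6 := h5 g hgA
      have hty : ty g = 2 ::ₘ Multiset.replicate (n - 2) 1 := by
        rw [ty_eq, hg, Fintype.card_fin]
        simp
      rw [ch_apply, hty] at h6
      have h7 : FM (2 ::ₘ Multiset.replicate (n - 2) 1) β = 0 := by exact_mod_cast h6
      have h8 := FM_two n (by omega) β hs
      rw [h7, zero_mul] at h8
      rcases mul_eq_zero.1 h8.symm with h9 | h9
      · exact absurd h9 (by exact_mod_cast (n - 2).factorial_ne_zero)
      · exact h9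

/-- the partition `(n - j, j)` with `n` and `j` odd -/
theorem two_row {p : ℕ} (hp : p.Prime) (hn : 5 ≤ n) {j : ℕ} (hj0 : 1 ≤ j) (hj : 2 * j ≤ n) (hno : n % 2 = 1)
    (hjo : j % 2 = 1) (h : (p : ℤ) ∣ j ∨ (p : ℤ) ∣ n + 1 - j) : EvAt p ↥(alternatingGroup (Fin n)) := by
  set β : Fin 3 → ℕ := ![0, j + 1, n + 2 - j] with hβdef
  have hc : ((n + 2 - j : ℕ) : ℤ) = n + 2 - j := by
    rw [Nat.cast_sub (by omega)]
    push_cast
    ring
  have b0 : β 0 = 0 := rfl
  have b1 : β 1 = j + 1 := rfl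
  have b2 : β 2 = n + 2 - j := rfl
  have hβ : StrictMono β := by
    intro a b hab
    fin_cases a <;> fin_cases b <;> simp [hβdef] at hab ⊢ <;> omega
  have hs : ∑ i, β i = n + ∑ i : Fin 3, (i : ℕ) := by
    rw [Fin.sum_univ_three, Fin.sum_univ_three, b0, b1, b2]
    simp
    omega
  have hd : (2 : ℤ) ∣ FM (Multiset.replicate n 1) β := by
    have h1 := FM_ones_formula n β hs
    rw [show (∏ i : Fin 3, ∏ j ∈ Finset.Ioi i, ((β j : ℤ) - β i)) = F3 (β 0) (β 1) (β 2) from
      prod_Ioi_three fun i => (β i : ℤ), Fin.prod_univ_three, b0, b1, b2, hc] at h1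
    obtain ⟨i, rfl⟩ : ∃ i, j = i + 1 := ⟨j - 1, by omega⟩
    obtain ⟨m, rfl⟩ : ∃ m, n = m + i := ⟨n - i, by omega⟩
    have e1 : m + i + 2 - (i + 1) = m + 1 := by omega
    have h2 : ((m + i).factorial : ℤ) = ((m + i).choose i : ℕ) * (i.factorial * m.factorial) := by
      have := Nat.choose_mul_factorial_mul_factorial (n := m + i) (k := i) (by omega)
      rw [Nat.add_sub_cancel] at this
      rw [← this]
      push_cast
      ring
    rw [e1, h2, Nat.factorial_succ (i + 1), Nat.factorial_succ i, Nat.factorial_succ m, Nat.factorial_zero] at h1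
    have hf : ((i.factorial : ℤ) * m.factorial * ((i : ℤ) + 2) * ((m : ℤ) + 1)) ≠ 0 := by positivity
    have h3 : FM (Multiset.replicate (m + i) 1) β * ((i : ℤ) + 1) = ((m + i).choose i : ℕ) * ((m : ℤ) - i - 1) := by
      apply mul_left_cancel₀ hf
      unfold F3 at h1
      push_cast at h1 ⊢
      linear_combination h1
    have h4 : (2 : ℤ) ∣ FM (Multiset.replicate (m + i) 1) β * ((i : ℤ) + 1) := by
      rw [h3]
      exact Dvd.dvd.mul_left (by omega) _
    rcases Int.even_mul.1 (even_iff_two_dvd.2 h4) with h5 | h5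
    · exact even_iff_two_dvd.1 h5
    · exfalso
      rw [even_iff_two_dvd] at h5
      omega
  have hT : ((β 0 : ℤ) * (β 0 - 1) * F3 (β 0 - 2) (β 1) (β 2) +
        (β 1 : ℤ) * (β 1 - 1) * F3 (β 0) (β 1 - 2) (β 2) +
        (β 2 : ℤ) * (β 2 - 1) * F3 (β 0) (β 1) (β 2 - 2)) ≠ 0 := by
    rw [b0, b1, b2, hc]
    have e : (((0 : ℕ) : ℤ) * (((0 : ℕ) : ℤ) - 1) * F3 (((0 : ℕ) : ℤ) - 2) ((j + 1 : ℕ) : ℤ) (n + 2 - j) +
        ((j + 1 : ℕ) : ℤ) * (((j + 1 : ℕ) : ℤ) - 1) * F3 ((0 : ℕ) : ℤ) (((j + 1 : ℕ) : ℤ) - 2) (n + 2 - j) +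
        ((n : ℤ) + 2 - j) * ((n : ℤ) + 2 - j - 1) * F3 ((0 : ℕ) : ℤ) ((j + 1 : ℕ) : ℤ) (n + 2 - j - 2)) =
        ((j : ℤ) + 1) * (n + 2 - j) * (n + 1 - 2 * j) * ((n - j) * (n - j - 1) + j * (j - 3)) := by
      unfold F3
      push_cast
      ring
    rw [e]
    have hj' : (2 * j : ℤ) ≤ n := by exact_mod_cast hj
    have hj0' : (1 : ℤ) ≤ j := by exact_mod_cast hj0
    have hn' : (5 : ℤ) ≤ n := by exact_mod_cast hn
    have h1 : (0 : ℤ) < (n - j) * (n - j - 1) + j * (j - 3) := by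
      nlinarith
    have h2 : (0 : ℤ) < ((j : ℤ) + 1) * (n + 2 - j) * (n + 1 - 2 * j) :=
      mul_pos (mul_pos (by omega) (by omega)) (by omega)
    exact (mul_pos h2 h1).ne'
  rcases h with h | h
  · refine exists_of_tuple hp hn hβ hs 1 (fun i => ?_) hd (Or.inr hT)
    rw [tr_two]
    apply mod_eq_of_dvd_sub
    fin_cases i
    · simp [hβdef]
    · simpa [hβdef] using h
    · simp only [hβdef]
      change (p : ℤ) ∣ ((n + 2 - j : ℕ) : ℤ) - ((n + 2 : ℕ) : ℤ)
      rw [hc]
      push_cast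
      have : (n : ℤ) + 2 - j - (n + 2) = -j := by ring
      rw [this, dvd_neg]
      exact h
  · refine exists_of_tuple hp hn hβ hs (Equiv.swap 1 2) (fun i => ?_) hd (Or.inr hT)
    rw [tr_two]
    apply mod_eq_of_dvd_sub
    fin_cases i
    · simp [hβdef, Equiv.swap_apply_of_ne_of_ne]
    · change (p : ℤ) ∣ ((β ((Equiv.swap (1 : Fin 3) 2) 1) : ℕ) : ℤ) - ((1 : ℕ) : ℤ)
      rw [Equiv.swap_apply_left, b2, hc]
      push_cast
      have : (n : ℤ) + 2 - j - 1 = n + 1 - j := by ring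
      rw [this]
      exact h
    · change (p : ℤ) ∣ ((β ((Equiv.swap (1 : Fin 3) 2) 2) : ℕ) : ℤ) - ((n + 2 : ℕ) : ℤ)
      rw [Equiv.swap_apply_right, b1]
      push_cast
      have : (j : ℤ) + 1 - (n + 2) = -(n + 1 - j) := by ring
      rw [this, dvd_neg]
      exact h

/-- the partition `(n - s, s - 1, 1)` with `n` even and `s` odd -/
theorem three_row {p : ℕ} (hp : p.Prime) (hn : 5 ≤ n) {s : ℕ} (hs3 : 3 ≤ s) (hsn : 2 * s ≤ n + 1) (hne : n % 2 = 0)
    (hso : s % 2 = 1) (h : s = p ∨ (p : ℤ) ∣ n + 2 - s) : EvAt p ↥(alternatingGroup (Fin n)) := by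
  set β : Fin 3 → ℕ := ![1, s, n + 2 - s] with hβdef
  have hc : ((n + 2 - s : ℕ) : ℤ) = n + 2 - s := by
    rw [Nat.cast_sub (by omega)]
    push_cast
    ring
  have b0 : β 0 = 1 := rfl
  have b1 : β 1 = s := rfl
  have b2 : β 2 = n + 2 - s := rfl
  have hβ : StrictMono β := by
    intro a b hab
    fin_cases a <;> fin_cases b <;> simp [hβdef] at hab ⊢ <;> omega
  have hs : ∑ i, β i = n + ∑ i : Fin 3, (i : ℕ) := by
    rw [Fin.sum_univ_three, Fin.sum_univ_three, b0, b1, b2]
    simp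
    omega
  have hfor : FM (Multiset.replicate n 1) β * ((s : ℤ) * (n + 2 - s)) =
      (n.choose (s - 1) : ℕ) * ((s - 1) * (n + 1 - s) * (n + 2 - 2 * s)) := by
    have h1 := FM_ones_formula n β hs
    rw [show (∏ i : Fin 3, ∏ j ∈ Finset.Ioi i, ((β j : ℤ) - β i)) = F3 (β 0) (β 1) (β 2) from
      prod_Ioi_three fun i => (β i : ℤ), Fin.prod_univ_three, b0, b1, b2, hc] at h1
    obtain ⟨i, rfl⟩ : ∃ i, s = i + 1 := ⟨s - 1, by omega⟩
    obtain ⟨m, rfl⟩ : ∃ m, n = m + i := ⟨n - i, by omega⟩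
    have e1 : m + i + 2 - (i + 1) = m + 1 := by omega
    have h2 : ((m + i).factorial : ℤ) = ((m + i).choose i : ℕ) * (i.factorial * m.factorial) := by
      have := Nat.choose_mul_factorial_mul_factorial (n := m + i) (k := i) (by omega)
      rw [Nat.add_sub_cancel] at this
      rw [← this]
      push_cast
      ring
    rw [e1, h2, Nat.factorial_succ i, Nat.factorial_succ m, Nat.factorial_one] at h1
    have hf : ((i.factorial : ℤ) * m.factorial) ≠ 0 := by positivity
    apply mul_left_cancel₀ hf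
    rw [Nat.add_sub_cancel]
    unfold F3 at h1
    push_cast at h1 ⊢
    linear_combination h1
  have hd : (2 : ℤ) ∣ FM (Multiset.replicate n 1) β := by
    have h4 : (2 : ℤ) ∣ FM (Multiset.replicate n 1) β * ((s : ℤ) * (n + 2 - s)) := by
      rw [hfor]
      refine Dvd.dvd.mul_left (Dvd.dvd.mul_right (Dvd.dvd.mul_right ?_ _) _) _
      omega
    rcases Int.even_mul.1 (even_iff_two_dvd.2 h4) with h5 | h5
    · exact even_iff_two_dvd.1 h5
    · exfalso
      rcases Int.even_mul.1 h5 with h5 | h5 <;> rw [even_iff_two_dvd] at h5 <;> omega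
  have hT : (4 : ℤ) ∣ FM (Multiset.replicate n 1) β ∨ ((β 0 : ℤ) * (β 0 - 1) * F3 (β 0 - 2) (β 1) (β 2) +
        (β 1 : ℤ) * (β 1 - 1) * F3 (β 0) (β 1 - 2) (β 2) +
        (β 2 : ℤ) * (β 2 - 1) * F3 (β 0) (β 1) (β 2 - 2)) ≠ 0 := by
    by_cases h6 : n = 6
    · left
      have hs' : s = 3 := by omega
      subst hs'
      subst h6
      have h7 : ((Nat.choose 6 (3 - 1) : ℕ) : ℤ) = 15 := by decide
      rw [h7] at hfor
      push_cast at hfor
      refine ⟨4, ?_⟩
      linarith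
    · right
      rw [b0, b1, b2, hc]
      have e : (((1 : ℕ) : ℤ) * (((1 : ℕ) : ℤ) - 1) * F3 (((1 : ℕ) : ℤ) - 2) (s : ℤ) (n + 2 - s) +
          (s : ℤ) * ((s : ℤ) - 1) * F3 ((1 : ℕ) : ℤ) ((s : ℤ) - 2) (n + 2 - s) +
          ((n : ℤ) + 2 - s) * ((n : ℤ) + 2 - s - 1) * F3 ((1 : ℕ) : ℤ) (s : ℤ) (n + 2 - s - 2)) =
          ((s : ℤ) - 1) * (n + 1 - s) * (n + 2 - 2 * s) * ((n - s) * (n - s - 1) + (s - 1) * (s - 4) - 4) := by
        unfold F3
        push_cast
        ring
      rw [e]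
      have hsn' : (2 * s : ℤ) ≤ n + 1 := by exact_mod_cast hsn
      have hs3' : (3 : ℤ) ≤ s := by exact_mod_cast hs3
      have hn' : (7 : ℤ) ≤ n := by omega
      have h1 : (0 : ℤ) < (n - s) * (n - s - 1) + (s - 1) * (s - 4) - 4 := by
        nlinarith
      have h2 : (0 : ℤ) < ((s : ℤ) - 1) * (n + 1 - s) * (n + 2 - 2 * s) :=
        mul_pos (mul_pos (by omega) (by omega)) (by omega)
      exact (mul_pos h2 h1).ne'
  rcases h with rfl | h
  · refine exists_of_tuple hp hn hβ hs (Equiv.swap 0 1) (fun i => ?_) hd hT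
    rw [tr_two]
    apply mod_eq_of_dvd_sub
    fin_cases i
    · change (s : ℤ) ∣ ((β ((Equiv.swap (0 : Fin 3) 1) 0) : ℕ) : ℤ) - ((0 : ℕ) : ℤ)
      rw [Equiv.swap_apply_left, b1]
      simp
    · change (s : ℤ) ∣ ((β ((Equiv.swap (0 : Fin 3) 1) 1) : ℕ) : ℤ) - ((1 : ℕ) : ℤ)
      rw [Equiv.swap_apply_right, b0]
      simp
    · change (s : ℤ) ∣ ((β ((Equiv.swap (0 : Fin 3) 1) 2) : ℕ) : ℤ) - ((n + 2 : ℕ) : ℤ)
      rw [Equiv.swap_apply_of_ne_of_ne (by decide) (by decide), b2, hc]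
      push_cast
      have : (n : ℤ) + 2 - s - (n + 2) = -s := by ring
      rw [this, dvd_neg]
  · refine exists_of_tuple hp hn hβ hs (finRotate 3).symm (fun i => ?_) hd hT
    rw [tr_two]
    apply mod_eq_of_dvd_sub
    fin_cases i
    · change (p : ℤ) ∣ ((β ((finRotate 3).symm 0) : ℕ) : ℤ) - ((0 : ℕ) : ℤ)
      have e : (finRotate 3).symm 0 = 2 := by decide
      rw [e, b2, hc]
      push_cast
      rw [sub_zero]
      exact h
    · change (p : ℤ) ∣ ((β ((finRotate 3).symm 1) : ℕ) : ℤ) - ((1 : ℕ) : ℤ)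
      have e : (finRotate 3).symm 1 = 0 := by decide
      rw [e, b0]
      simp
    · change (p : ℤ) ∣ ((β ((finRotate 3).symm 2) : ℕ) : ℤ) - ((n + 2 : ℕ) : ℤ)
      have e : (finRotate 3).symm 2 = 1 := by decide
      rw [e, b1]
      push_cast
      have : (s : ℤ) - (n + 2) = -(n + 2 - s) := by ring
      rw [this, dvd_neg]
      exact h

/-- the Sylow `p`-subgroups are cyclic and the cycles of length `p` are real -/
theorem cyc_row {p : ℕ} (hp : p.Prime) (hp2 : p ≠ 2) (hpn : p + 2 ≤ n) (hn : n < 2 * p) :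
    EvAt p ↥(alternatingGroup (Fin n)) := by
  classical
  have : Fact p.Prime := ⟨hp⟩
  have : Nontrivial (Fin n) := Fin.nontrivial_iff_two_le.2 (by omega)
  have h3 : 3 ≤ p := by have := hp.two_le; omega
  obtain ⟨g, hg⟩ := (Equiv.Perm.exists_with_cycleType_iff (Fin n) (m := {p})).mpr
    ⟨by simp; omega, by simp; omega⟩
  have hodd := hp.odd_of_ne_two hp2
  have hgA : g ∈ alternatingGroup (Fin n) := by
    rw [Equiv.Perm.mem_alternatingGroup, Equiv.Perm.sign_of_cycleType, hg]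
    simp only [Multiset.sum_singleton, Multiset.card_singleton]
    exact (hodd.add_odd odd_one).neg_one_pow
  have hord : orderOf (⟨g, hgA⟩ : alternatingGroup (Fin n)) = p := by
    rw [← Subgroup.orderOf_coe]
    change orderOf g = p
    rw [← Equiv.Perm.lcm_cycleType, hg]
    simp
  refine evAt_of_real_cyclic hp2 ?_ hord ?_
  · intro P
    obtain ⟨k, hk⟩ := IsPGroup.iff_card.1 P.isPGroup'
    have h1 : 2 * Nat.card (alternatingGroup (Fin n)) = n.factorial := by
      rw [Nat.card_eq_fintype_card, two_mul_card_alternatingGroup, Fintype.card_perm, Fintype.card_fin]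
    have h2 : p ^ k ∣ n.factorial := by
      rw [← h1, ← hk]
      exact (Subgroup.card_subgroup_dvd_card _).trans (dvd_mul_left _ _)
    have hlog : Nat.log p n < 2 := by
      apply Nat.log_lt_of_lt_pow (by omega)
      nlinarith
    rw [hp.pow_dvd_factorial_iff hlog] at h2
    have h5 : ∑ i ∈ Finset.Ico 1 2, n / p ^ i = 1 := by
      rw [show Finset.Ico 1 2 = {1} from by decide, Finset.sum_singleton, pow_one]
      exact Nat.div_eq_of_lt_le (by omega) (by omega)
    rw [h5] at h2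
    interval_cases k
    · have : Subsingleton (P : Subgroup (alternatingGroup (Fin n))) := by
        rw [pow_zero] at hk
        exact (Nat.card_eq_one_iff_unique.1 hk).1
      infer_instance
    · rw [pow_one] at hk
      exact isCyclic_of_prime_card hk
  · apply alternatingGroup.isConj_of
    · rw [Equiv.Perm.isConj_iff_cycleType_eq]
      simp [Equiv.Perm.cycleType_inv]
    · change g.support.card + 2 ≤ _
      rw [← Equiv.Perm.sum_cycleType, hg, Fintype.card_fin]
      simpa using hpn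

/-- **The alternating row.** -/
theorem alt_row (n : ℕ) (hn : 5 ≤ n) : Ev ↥(alternatingGroup (Fin n)) := by
  intro p hp hp2 hd
  have : Nontrivial (Fin n) := Fin.nontrivial_iff_two_le.2 (by omega)
  have h3 : 3 ≤ p := by have := hp.two_le; omega
  have hodd : p % 2 = 1 := Nat.odd_iff.1 (hp.odd_of_ne_two hp2)
  have hpn : p ≤ n := by
    have h1 : 2 * Nat.card (alternatingGroup (Fin n)) = n.factorial := by
      rw [Nat.card_eq_fintype_card, two_mul_card_alternatingGroup, Fintype.card_perm, Fintype.card_fin]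
    exact (hp.dvd_factorial).1 (h1 ▸ Dvd.dvd.mul_left hd 2)
  by_cases h2p : 2 * p ≤ n
  · rcases Nat.mod_two_eq_zero_or_one n with hpar | hpar
    · exact three_row hp hn h3 (by omega) hpar hodd (Or.inl rfl)
    · exact two_row hp hn (by omega) h2p hpar hodd (Or.inl dvd_rfl)
  · by_cases hb : p + 2 ≤ n
    · exact cyc_row hp hp2 hb (by omega)
    · rcases Nat.eq_or_lt_of_le hpn with h | h
      · subst h
        exact two_row hp hn le_rfl (by omega) hodd rfl (Or.inr (by simp))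
      · have h4 : n = p + 1 := by omega
        subst h4
        refine three_row hp hn le_rfl (by omega) (by omega) rfl (Or.inr ?_)
        push_cast
        have : (p : ℤ) + 1 + 2 - 3 = p := by ring
        rw [this]

end

end Cfsg.Agent.H729.EP
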